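import Mathlib.Algebra.Module.FinitePresentation
import Mathlib.RingTheory.Finiteness.ModuleFinitePresentation
import Mathlib.RingTheory.FinitePresentation
import Mathlib.RingTheory.TensorProduct.MvPolynomial
import Mathlib.RingTheory.IsTensorProduct
import Mathlib.LinearAlgebra.TensorProduct.RightExactness
import Mathlib.RingTheory.Polynomial.Basic

/-! Modules finitely presented relative to a base ring: invariance under the choice of a finitely
presented algebra mapping onto the ring, base change, and integral extensions. -/

set_option autoImplicit false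
set_option linter.style.haveILetI false

universe u

open TensorProduct

namespace RelFPLib

/-- `M` is finitely presented over `P` through the ring map `φ : P →+* A`. -/
def FPAlong {P A : Type u} [CommRing P] [CommRing A] (φ : P →+* A) (M : Type u) [AddCommGroup M]
    [Module A M] : Prop :=
  @Module.FinitePresentation P M _ _ (Module.compHom M φ)

theorem fpAlong_iff {P A : Type u} [CommRing P] [CommRing A] (φ : P →+* A) {M : Type u}
    [AddCommGroup M] [Module A M] [inst : Module P M] (h : ∀ (p : P) (m : M), p • m = φ p • m) :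
    FPAlong φ M ↔ Module.FinitePresentation P M := by
  have : inst = Module.compHom M φ := Module.ext' _ _ h
  subst this
  rfl

theorem fpAlong_congr {P A : Type u} [CommRing P] [CommRing A] (φ : P →+* A) {M N : Type u}
    [AddCommGroup M] [Module A M] [AddCommGroup N] [Module A N] (e : M ≃ₗ[A] N) :
    FPAlong φ M ↔ FPAlong φ N := by
  letI := Module.compHom M φ
  letI := Module.compHom N φ
  let e' : M ≃ₗ[P] N := { e.toAddEquiv with map_smul' := fun p m => e.map_smul (φ p) m }
  exact e'.finitePresentation_iff

/-- A finite, finitely presented algebra does not change finite presentation of modules. -/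
theorem finitePresentation_iff_of_finite {P Q M : Type u} [CommRing P] [CommRing Q] [Algebra P Q]
    [Module.FinitePresentation P Q] [AddCommGroup M] [Module P M] [Module Q M]
    [IsScalarTower P Q M] :
    Module.FinitePresentation Q M ↔ Module.FinitePresentation P M := by
  refine ⟨fun h => Module.FinitePresentation.trans P M Q, fun h => ?_⟩
  haveI : Module.Finite Q M := Module.Finite.of_restrictScalars_finite P Q M
  obtain ⟨n, f, hf⟩ := Module.Finite.exists_fin' Q M
  refine Module.finitePresentation_of_surjective f hf ?_
  apply Submodule.FG.of_restrictScalars P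
  exact Module.FinitePresentation.fg_ker (f.restrictScalars P) hf

theorem fpAlong_comp_finite {P Q A : Type u} [CommRing P] [CommRing Q] [CommRing A] [Algebra P Q]
    [Module.FinitePresentation P Q] (φ : Q →+* A) (M : Type u) [AddCommGroup M] [Module A M] :
    FPAlong (φ.comp (algebraMap P Q)) M ↔ FPAlong φ M := by
  letI : Module P M := Module.compHom M (φ.comp (algebraMap P Q))
  letI : Module Q M := Module.compHom M φ
  haveI : IsScalarTower P Q M := IsScalarTower.of_algebraMap_smul fun _ _ => rfl
  exact finitePresentation_iff_of_finite.symm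

theorem fpAlong_comp_surjective {P Q A : Type u} [CommRing P] [CommRing Q] [CommRing A]
    (π : P →+* Q) (hπ : Function.Surjective π) (hk : (RingHom.ker π).FG) (φ : Q →+* A)
    (M : Type u) [AddCommGroup M] [Module A M] :
    FPAlong (φ.comp π) M ↔ FPAlong φ M := by
  letI := π.toAlgebra
  haveI : Module.FinitePresentation P Q :=
    Module.finitePresentation_of_surjective (Algebra.linearMap P Q) hπ hk
  exact fpAlong_comp_finite φ M

section

variable {R A : Type u} [CommRing R] [CommRing A] [Algebra R A]

theorem fpAlong_mvPolynomial_iff {ι κ : Type u} [Finite ι] [Finite κ]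
    (α : MvPolynomial ι R →ₐ[R] A) (hα : Function.Surjective α)
    (β : MvPolynomial κ R →ₐ[R] A) (hβ : Function.Surjective β) (M : Type u) [AddCommGroup M]
    [Module A M] :
    FPAlong α.toRingHom M ↔ FPAlong β.toRingHom M := by
  choose a ha using fun j => hα (β (MvPolynomial.X j))
  choose b hb using fun i => hβ (α (MvPolynomial.X i))
  let π : MvPolynomial (ι ⊕ κ) R →ₐ[R] MvPolynomial ι R :=
    MvPolynomial.aeval (Sum.elim MvPolynomial.X a)
  let π' : MvPolynomial (ι ⊕ κ) R →ₐ[R] MvPolynomial κ R :=
    MvPolynomial.aeval (Sum.elim b MvPolynomial.X)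
  have hπ : Function.Surjective π := fun p => ⟨MvPolynomial.rename Sum.inl p, by
    simp [π, MvPolynomial.aeval_rename, Sum.elim_comp_inl, MvPolynomial.aeval_X_left_apply]⟩
  have hπ' : Function.Surjective π' := fun p => ⟨MvPolynomial.rename Sum.inr p, by
    simp [π', MvPolynomial.aeval_rename, Sum.elim_comp_inr, MvPolynomial.aeval_X_left_apply]⟩
  have heq : α.comp π = β.comp π' := by
    refine MvPolynomial.algHom_ext fun x => ?_
    cases x <;> simp [π, π', ha, hb]
  rw [← fpAlong_comp_surjective π.toRingHom hπ
      (Algebra.FinitePresentation.ker_fG_of_surjective π hπ) α.toRingHom M,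
    ← fpAlong_comp_surjective π'.toRingHom hπ'
      (Algebra.FinitePresentation.ker_fG_of_surjective π' hπ') β.toRingHom M]
  rw [show α.toRingHom.comp π.toRingHom = β.toRingHom.comp π'.toRingHom from
    congrArg AlgHom.toRingHom heq]

/-- Relative finite presentation does not depend on the finitely presented algebra. -/
theorem fpAlong_iff_fpAlong {P Q : Type u} [CommRing P] [CommRing Q] [Algebra R P] [Algebra R Q]
    [Algebra.FinitePresentation R P] [Algebra.FinitePresentation R Q]
    (α : P →ₐ[R] A) (hα : Function.Surjective α) (β : Q →ₐ[R] A) (hβ : Function.Surjective β)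
    (M : Type u) [AddCommGroup M] [Module A M] :
    FPAlong α.toRingHom M ↔ FPAlong β.toRingHom M := by
  obtain ⟨ι, _, f, hf, hfk⟩ :=
    (Algebra.FinitePresentation.iff_quotient_mvPolynomial' (R := R) (A := P)).1 inferInstance
  obtain ⟨κ, _, g, hg, hgk⟩ :=
    (Algebra.FinitePresentation.iff_quotient_mvPolynomial' (R := R) (A := Q)).1 inferInstance
  rw [← fpAlong_comp_surjective f.toRingHom hf hfk α.toRingHom M,
    ← fpAlong_comp_surjective g.toRingHom hg hgk β.toRingHom M]
  exact fpAlong_mvPolynomial_iff (α.comp f) (hα.comp hf) (β.comp g) (hβ.comp hg) M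

theorem finitePresentation_of_fpAlong {P : Type u} [CommRing P] (φ : P →+* A)
    (hφ : Function.Surjective φ) (M : Type u) [AddCommGroup M] [Module A M] (h : FPAlong φ M) :
    Module.FinitePresentation A M := by
  letI := φ.toAlgebra
  letI := Module.compHom M φ
  haveI : IsScalarTower P A M := IsScalarTower.of_algebraMap_smul fun _ _ => rfl
  haveI : Module.FinitePresentation P M := h
  haveI : Module.Finite A M := Module.Finite.of_restrictScalars_finite P A M
  obtain ⟨n, f, hf⟩ := Module.Finite.exists_fin' A M
  haveI : Module.Finite P A := Module.Finite.of_surjective (Algebra.linearMap P A) hφ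
  refine Module.finitePresentation_of_surjective f hf ?_
  apply Submodule.FG.of_restrictScalars P
  exact Module.FinitePresentation.fg_ker (f.restrictScalars P) hf

end

section baseChange

attribute [local instance] MvPolynomial.algebraMvPolynomial

/-- Base change along a finitely presented algebra. -/
theorem fpAlong_tensor {R A A' P Q : Type u} [CommRing R] [CommRing A] [CommRing A'] [CommRing P]
    [CommRing Q] [Algebra R A] [Algebra A A'] [Algebra R A'] [IsScalarTower R A A']
    [Algebra.FinitePresentation A A'] [Algebra R P] [Algebra R Q]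
    [Algebra.FinitePresentation R P] [Algebra.FinitePresentation R Q]
    (α : P →ₐ[R] A) (hα : Function.Surjective α) (γ : Q →ₐ[R] A') (hγ : Function.Surjective γ)
    (M : Type u) [AddCommGroup M] [Module A M] (hM : FPAlong α.toRingHom M) :
    FPAlong γ.toRingHom (A' ⊗[A] M) := by
  classical
  obtain ⟨σ, _, f, hf, hfk⟩ : ∃ (ι : Type u) (_ : Fintype ι) (f : MvPolynomial ι A →ₐ[A] A'),
      Function.Surjective f ∧ (RingHom.ker f.toRingHom).FG :=
    Algebra.FinitePresentation.iff_quotient_mvPolynomial'.1 inferInstance
  letI := α.toRingHom.toAlgebra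
  haveI : IsScalarTower R P A := IsScalarTower.of_algebraMap_eq fun r => (α.commutes r).symm
  letI := Module.compHom M α.toRingHom
  haveI : IsScalarTower P A M := IsScalarTower.of_algebraMap_smul fun _ _ => rfl
  haveI : Module.FinitePresentation P M := hM
  let S := MvPolynomial σ A
  let Q₀ := MvPolynomial σ P
  have hQS : Function.Surjective (algebraMap Q₀ S) := MvPolynomial.map_surjective _ hα
  let e : S ⊗[A] M ≃ₗ[Q₀] Q₀ ⊗[P] M := Algebra.IsPushout.cancelBaseChange P Q₀ A S M
  haveI hN : Module.FinitePresentation Q₀ (S ⊗[A] M) := Module.FinitePresentation.of_equiv e.symm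
  -- the map down to `A'`
  let f₀ : Q₀ →+* A' := f.toRingHom.comp (algebraMap Q₀ S)
  letI := Module.compHom (A' ⊗[A] M) f₀
  let l₀ : S ⊗[A] M →ₗ[A] A' ⊗[A] M := f.toLinearMap.rTensor M
  have hl₀ : ∀ (q : Q₀) (x : S ⊗[A] M), l₀ (q • x) = q • l₀ x := by
    intro q x
    induction x using TensorProduct.induction_on with
    | zero => erw [smul_zero, map_zero]
    | add x y hx hy => have h1 : q • (x + y) = q • x + q • y := TensorProduct.smul_add q x y
                       rw [h1, map_add, map_add, hx, hy]
                       exact (TensorProduct.smul_add (f₀ q) _ _).symm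
    | tmul s m =>
      rw [TensorProduct.smul_tmul', Algebra.smul_def]
      show (f (algebraMap Q₀ S q * s)) ⊗ₜ[A] m = f₀ q • (f s ⊗ₜ[A] m)
      rw [map_mul, TensorProduct.smul_tmul', smul_eq_mul]
      rfl
  let l : S ⊗[A] M →ₗ[Q₀] A' ⊗[A] M := { l₀ with map_smul' := hl₀ }
  have hlsurj : Function.Surjective l := LinearMap.rTensor_surjective M hf
  have hker : (LinearMap.ker l).FG := by
    obtain ⟨G, hG⟩ := hfk
    haveI : Module.Finite A M := Module.Finite.of_restrictScalars_finite P A M
    obtain ⟨T, hT⟩ := (Module.finite_def (R := A) (M := M)).1 inferInstance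
    refine ⟨(G ×ˢ T).image fun p => p.1 ⊗ₜ[A] p.2, le_antisymm ?_ ?_⟩
    · rw [Submodule.span_le]
      intro z hz
      simp only [Finset.coe_image, Set.mem_image, Finset.mem_coe, Finset.mem_product] at hz
      obtain ⟨⟨g, m⟩, ⟨hg, hm⟩, rfl⟩ := hz
      have hg0 : f g = 0 := by
        have : g ∈ RingHom.ker f.toRingHom := hG ▸ Submodule.subset_span hg
        exact this
      show l₀ (g ⊗ₜ[A] m) = 0
      show f g ⊗ₜ[A] m = 0
      rw [hg0, TensorProduct.zero_tmul]
    · intro z hz
      have hex : Function.Exact (((RingHom.ker f.toRingHom).restrictScalars A).subtype.rTensor M)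
          (f.toLinearMap.rTensor M) :=
        rTensor_exact M (fun y => ⟨fun h => ⟨⟨y, h⟩, rfl⟩, fun ⟨w, hw⟩ => hw ▸ w.2⟩) hf
      set N₀ := Submodule.span Q₀ (((G ×ˢ T).image fun p => p.1 ⊗ₜ[A] p.2 : Finset (S ⊗[A] M)) :
        Set (S ⊗[A] M))
      have hgm : ∀ g ∈ G, ∀ m : M, g ⊗ₜ[A] m ∈ N₀ := by
        intro g hg m
        have hm' : m ∈ Submodule.span A (T : Set M) := hT.symm ▸ trivial
        induction hm' using Submodule.span_induction with
        | zero => simp
        | add x y _ _ hx hy => rw [TensorProduct.tmul_add]; exact Submodule.add_mem _ hx hy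
        | smul a x _ hx =>
          obtain ⟨p, rfl⟩ := hα a
          have : g ⊗ₜ[A] (α p • x) = (MvPolynomial.C p : Q₀) • (g ⊗ₜ[A] x) := by
            rw [TensorProduct.smul_tmul', ← TensorProduct.smul_tmul, Algebra.smul_def,
              Algebra.smul_def]
            congr 2
            exact (MvPolynomial.map_C _ p).symm
          rw [this]
          exact Submodule.smul_mem _ _ hx
        | mem t ht =>
          refine Submodule.subset_span (Finset.mem_coe.2 (Finset.mem_image.2 ⟨(g, t), ?_, rfl⟩))
          exact Finset.mem_product.2 ⟨hg, ht⟩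
      have hgm' : ∀ i ∈ Submodule.span S (G : Set S), ∀ m : M, i ⊗ₜ[A] m ∈ N₀ := by
        intro i hi
        induction hi using Submodule.span_induction with
        | mem g hg => exact hgm g hg
        | zero => intro m; simp
        | add x y _ _ hx hy =>
          intro m; rw [TensorProduct.add_tmul]; exact Submodule.add_mem _ (hx m) (hy m)
        | smul s x _ hx =>
          intro m
          obtain ⟨q, rfl⟩ := hQS s
          rw [algebraMap_smul, ← TensorProduct.smul_tmul']
          exact Submodule.smul_mem _ _ (hx m)
      obtain ⟨w, rfl⟩ := (hex z).1 hz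
      clear hz
      induction w using TensorProduct.induction_on with
      | zero => rw [map_zero]; exact Submodule.zero_mem _
      | add w w' hw hw' => rw [map_add]; exact Submodule.add_mem _ hw hw'
      | tmul i m =>
        obtain ⟨i, hi⟩ := i
        exact hgm' i (hG.symm.le hi) m
  haveI : Module.FinitePresentation Q₀ (A' ⊗[A] M) :=
    Module.finitePresentation_of_surjective l hlsurj hker
  -- compare with the given presentation
  haveI : Algebra.FinitePresentation R Q₀ :=
    Algebra.FinitePresentation.mvPolynomial_of_finitePresentation σ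
  let δ : Q₀ →ₐ[R] A' :=
    { f₀ with
      commutes' := fun r => by
        show f (algebraMap Q₀ S (algebraMap R Q₀ r)) = algebraMap R A' r
        rw [IsScalarTower.algebraMap_apply R P Q₀, ← IsScalarTower.algebraMap_apply P Q₀ S,
          IsScalarTower.algebraMap_apply P A S, f.commutes, ← IsScalarTower.algebraMap_apply R P A,
          ← IsScalarTower.algebraMap_apply] }
  exact (fpAlong_iff_fpAlong δ (hf.comp hQS) γ hγ (A' ⊗[A] M)).1
    ((fpAlong_iff δ.toRingHom fun _ _ => rfl).2 inferInstance)

end baseChange

/-- Relative finite presentation along a finite ring map. -/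
theorem fpAlong_finite {R A B P Q : Type u} [CommRing R] [CommRing A] [CommRing B] [CommRing P]
    [CommRing Q] [Algebra R A] [Algebra A B] [Algebra R B] [IsScalarTower R A B] [Module.Finite A B]
    [Algebra R P] [Algebra R Q] [Algebra.FinitePresentation R P] [Algebra.FinitePresentation R Q]
    (α : P →ₐ[R] A) (hα : Function.Surjective α) (β : Q →ₐ[R] B) (hβ : Function.Surjective β)
    (M : Type u) [AddCommGroup M] [Module B M] [Module A M] [IsScalarTower A B M] :
    FPAlong α.toRingHom M ↔ FPAlong β.toRingHom M := by
  classical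
  obtain ⟨n, ⟨f, hf⟩⟩ :=
    Algebra.FiniteType.iff_quotient_mvPolynomial''.1 (inferInstance : Algebra.FiniteType A B)
  haveI : Algebra.IsIntegral A B := Algebra.IsIntegral.of_finite A B
  have hmon : ∀ j : Fin n, ∃ p : Polynomial P, p.Monic ∧
      Polynomial.eval₂ ((algebraMap A B).comp α.toRingHom) (f (MvPolynomial.X j)) p = 0 := by
    intro j
    obtain ⟨p, hp, hp0⟩ := Algebra.IsIntegral.isIntegral (R := A) (f (MvPolynomial.X j))
    rcases subsingleton_or_nontrivial A with hA | hA
    · exact ⟨1, Polynomial.monic_one, (Module.subsingleton A B).elim _ _⟩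
    obtain ⟨q, hq, -, hqm⟩ := Polynomial.lifts_and_degree_eq_and_monic
      ((Polynomial.mem_lifts p).2 (Polynomial.map_surjective α.toRingHom hα p)) hp
    exact ⟨q, hqm, by rw [← Polynomial.eval₂_map, hq]; exact hp0⟩
  choose p hpm hp0 using hmon
  let S := MvPolynomial (Fin n) P
  let g : Fin n → S := fun j => Polynomial.aeval (MvPolynomial.X j) (p j)
  let I : Ideal S := Ideal.span (Set.range g)
  let T := S ⧸ I
  let φ₀ : S →+* B :=
    MvPolynomial.eval₂Hom ((algebraMap A B).comp α.toRingHom) fun j => f (MvPolynomial.X j)
  have hφ₀ : I ≤ RingHom.ker φ₀ := by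
    rw [Ideal.span_le]
    rintro _ ⟨j, rfl⟩
    show φ₀ (Polynomial.eval₂ (algebraMap P S) (MvPolynomial.X j) (p j)) = 0
    rw [Polynomial.hom_eval₂]
    have h1 : φ₀.comp (algebraMap P S) = (algebraMap A B).comp α.toRingHom :=
      RingHom.ext fun x => MvPolynomial.eval₂Hom_C _ _ x
    rw [h1]
    show Polynomial.eval₂ _ (φ₀ (MvPolynomial.X j)) (p j) = 0
    rw [show φ₀ (MvPolynomial.X j) = f (MvPolynomial.X j) from MvPolynomial.eval₂Hom_X' _ _ j]
    exact hp0 j
  have hIfg : I.FG := Submodule.fg_span (Set.finite_range g)
  haveI : Algebra.FinitePresentation P T := Algebra.FinitePresentation.quotient hIfg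
  haveI : Algebra.IsIntegral P T := by
    refine ⟨fun x => ?_⟩
    obtain ⟨s, rfl⟩ := Ideal.Quotient.mk_surjective x
    induction s using MvPolynomial.induction_on with
    | C a => exact isIntegral_algebraMap
    | add a b ha hb => rw [map_add]; exact ha.add hb
    | mul_X a j ha =>
      rw [map_mul]
      refine ha.mul ⟨p j, hpm j, ?_⟩
      show Polynomial.eval₂ ((Ideal.Quotient.mk I).comp (algebraMap P S))
        (Ideal.Quotient.mk I (MvPolynomial.X j)) (p j) = 0
      rw [← Polynomial.hom_eval₂]
      exact Ideal.Quotient.eq_zero_iff_mem.2 (Ideal.subset_span ⟨j, rfl⟩)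
  haveI : Module.Finite P T := Algebra.IsIntegral.finite
  haveI : Module.FinitePresentation P T :=
    Module.FinitePresentation.of_finite_of_finitePresentation P T
  haveI : Algebra.FinitePresentation R T := Algebra.FinitePresentation.trans R P T
  let φ : T →+* B := Ideal.Quotient.lift I φ₀ hφ₀
  have hφ : Function.Surjective φ := by
    intro b
    obtain ⟨s, rfl⟩ := hf b
    obtain ⟨q, rfl⟩ := MvPolynomial.map_surjective α.toRingHom hα s
    refine ⟨Ideal.Quotient.mk I q, ?_⟩
    show φ₀ q = f (MvPolynomial.map α.toRingHom q)
    have : φ₀ = f.toRingHom.comp (MvPolynomial.map α.toRingHom) := by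
      refine MvPolynomial.ringHom_ext (fun a => ?_) (fun j => ?_)
      · simp [φ₀]
      · simp [φ₀]
    rw [this]; rfl
  let φR : T →ₐ[R] B :=
    { φ with
      commutes' := fun r => by
        show φ₀ (algebraMap R S r) = algebraMap R B r
        rw [IsScalarTower.algebraMap_apply R A B, ← α.commutes r,
          IsScalarTower.algebraMap_apply R P S]
        exact MvPolynomial.eval₂Hom_C _ _ _ }
  rw [← fpAlong_iff_fpAlong φR hφ β hβ M, ← fpAlong_comp_finite (P := P) φR.toRingHom M]
  letI := Module.compHom M α.toRingHom
  rw [fpAlong_iff α.toRingHom (fun _ _ => rfl)]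
  refine (fpAlong_iff (φR.toRingHom.comp (algebraMap P T)) fun x m => ?_).symm
  show α x • m = φ₀ (algebraMap P S x) • m
  rw [show φ₀ (algebraMap P S x) = algebraMap A B (α x) from MvPolynomial.eval₂Hom_C _ _ _,
    algebraMap_smul]

end RelFPLib
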